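import Cfsg.Agent.KFacts.HS.Base

/-!
# `|HS| > 6531840` (helper253)
-/

set_option autoImplicit false

namespace Cfsg.Agent.OddHalf.D6.QThree.PumpOrd

open Cfsg

universe u

theorem lt_hs {G : Type u} [Group G] (h : Spor.IsoHS G) : 6531840 < Nat.card G := by
  rw [KFacts.HS.card h]
  norm_num

end Cfsg.Agent.OddHalf.D6.QThree.PumpOrd
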