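import Cfsg.Agent.S1703

/-!
# `|J4| > 6531840` (helper253)
-/

set_option autoImplicit false

namespace Cfsg.Agent.OddHalf.D6.QThree.PumpOrd

open Cfsg

theorem lt_j4 {G : Type*} [Group G] (h : Spor.IsoJ4 G) : 6531840 < Nat.card G := by
  obtain ⟨e⟩ := h
  rw [Nat.card_congr e.toEquiv, S1703.result.2]
  norm_num

end Cfsg.Agent.OddHalf.D6.QThree.PumpOrd
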