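import Cfsg.Agent.S1627

/-!
# `|Ru| > 6531840` (helper253)
-/

set_option autoImplicit false

namespace Cfsg.Agent.OddHalf.D6.QThree.PumpOrd

open Cfsg

theorem lt_ru {G : Type*} [Group G] (h : Spor.IsoRu G) : 6531840 < Nat.card G := by
  obtain ⟨e⟩ := h
  rw [Nat.card_congr e.toEquiv, S1627.result.2.1]
  norm_num

end Cfsg.Agent.OddHalf.D6.QThree.PumpOrd
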