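import Cfsg.Agent.Cit.TypeDet.Mathieu
import Cfsg.Agent.MTwelveType.SylowModel
import Cfsg.Agent.SporadicA.MathieuRecog
import Cfsg.Agent.SporRec.J1.Words
import Cfsg.Agent.S1619

/-!
# `M₁₁`, `M₁₂`, `M₂₂`, `J₁`, `J₂`: `25920` does not divide the order (helper577)
-/

set_option autoImplicit false

namespace Cfsg.Agent.OddHalf.D6.QThree.PumpOrd

open Cfsg

theorem m11 {G : Type*} [Group G] (h : Spor.IsoM11 G) : Nat.card G = 7920 := by
  obtain ⟨e⟩ := h
  rw [Nat.card_congr e.toEquiv, Cfsg.Agent.Cit.TypeDet.card_M11']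

theorem m12 {G : Type*} [Group G] (h : Spor.IsoM12 G) : Nat.card G = 95040 := by
  obtain ⟨e⟩ := h
  rw [Nat.card_congr e.toEquiv, MTwelveType.SylowModel.card_M12]

theorem m22 {G : Type*} [Group G] (h : Spor.IsoM22 G) : Nat.card G = 443520 := by
  obtain ⟨e⟩ := h
  rw [Nat.card_congr e.toEquiv, SporadicA.MathieuRecog.card_M22]

theorem j1 {G : Type*} [Group G] (h : Spor.IsoJ1 G) : Nat.card G = 175560 := by
  obtain ⟨e⟩ := h
  rw [Nat.card_congr e.toEquiv, SporRec.J1.Words.card_J1]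

theorem j2 {G : Type*} [Group G] (h : Spor.IsoJ2 G) : Nat.card G = 604800 := by
  obtain ⟨e⟩ := h
  rw [Nat.card_congr e.toEquiv, S1619.result.2.2.2]

end Cfsg.Agent.OddHalf.D6.QThree.PumpOrd
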