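import Cfsg.Agent.OddHalf.D6.QThree.PumpHyp
import Cfsg.Agent.OddHalf.D6.QThree.PumpOrd.Small5
import Cfsg.Agent.OddHalf.D6.QThree.PumpOrd.B
import Cfsg.Agent.OddHalf.D6.QThree.PumpOrd.Co1
import Cfsg.Agent.OddHalf.D6.QThree.PumpOrd.Co2
import Cfsg.Agent.OddHalf.D6.QThree.PumpOrd.Co3
import Cfsg.Agent.OddHalf.D6.QThree.PumpOrd.Fi22
import Cfsg.Agent.OddHalf.D6.QThree.PumpOrd.Fi23
import Cfsg.Agent.OddHalf.D6.QThree.PumpOrd.Fi24
import Cfsg.Agent.OddHalf.D6.QThree.PumpOrd.HN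
import Cfsg.Agent.OddHalf.D6.QThree.PumpOrd.HS
import Cfsg.Agent.OddHalf.D6.QThree.PumpOrd.He
import Cfsg.Agent.OddHalf.D6.QThree.PumpOrd.J3
import Cfsg.Agent.OddHalf.D6.QThree.PumpOrd.J4
import Cfsg.Agent.OddHalf.D6.QThree.PumpOrd.Ly
import Cfsg.Agent.OddHalf.D6.QThree.PumpOrd.M
import Cfsg.Agent.OddHalf.D6.QThree.PumpOrd.M23
import Cfsg.Agent.OddHalf.D6.QThree.PumpOrd.M24
import Cfsg.Agent.OddHalf.D6.QThree.PumpOrd.McL
import Cfsg.Agent.OddHalf.D6.QThree.PumpOrd.ON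
import Cfsg.Agent.OddHalf.D6.QThree.PumpOrd.Ru
import Cfsg.Agent.OddHalf.D6.QThree.PumpOrd.Suz
import Cfsg.Agent.OddHalf.D6.QThree.PumpOrd.Th
import Cfsg.Agent.OddHalf.D6.QThree.PumpOrd.Tits

/-!
# `SpOrd`: the order bounds for the sporadic groups and the Tits group (helper577, helper253)
-/

set_option autoImplicit false

namespace Cfsg.Agent.OddHalf.D6.QThree.Pump

open Cfsg.Agent.OddHalf.D6.QThree.PumpOrd

universe u

theorem spOrd : SpOrd.{u} where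
  m11 := fun G _ h hd => by rw [PumpOrd.m11 h] at hd; exact absurd hd (by norm_num)
  m12 := fun G _ h hd => by rw [PumpOrd.m12 h] at hd; exact absurd hd (by norm_num)
  m22 := fun G _ h hd => by rw [PumpOrd.m22 h] at hd; exact absurd hd (by norm_num)
  m23 := fun G _ h _ => lt_m23 h
  m24 := fun G _ h _ => lt_m24 h
  j1 := fun G _ h hd => by rw [PumpOrd.j1 h] at hd; exact absurd hd (by norm_num)
  j2 := fun G _ h hd => by rw [PumpOrd.j2 h] at hd; exact absurd hd (by norm_num)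
  j3 := fun G _ h _ => lt_j3 h
  j4 := fun G _ h _ => lt_j4 h
  co1 := fun G _ h _ => lt_co1 h
  co2 := fun G _ h _ => lt_co2 h
  co3 := fun G _ h _ => lt_co3 h
  mcl := fun G _ h _ => lt_mcl h
  hs := fun G _ h _ => lt_hs h
  suz := fun G _ h _ => lt_suz h
  he := fun G _ h _ => lt_he h
  ru := fun G _ h _ => lt_ru h
  on := fun G _ h _ => lt_on h
  ly := fun G _ h _ => lt_ly h
  fi22 := fun G _ h _ => lt_fi22 h
  fi23 := fun G _ h _ => lt_fi23 h
  fi24 := fun G _ h _ => lt_fi24 h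
  hn := fun G _ h _ => lt_hn h
  th := fun G _ h _ => lt_th h
  b := fun G _ h _ => lt_b h
  m := fun G _ h _ => lt_m h
  tits := fun G _ h _ => lt_tits h

end Cfsg.Agent.OddHalf.D6.QThree.Pump
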